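import Cfsg.Agent.Lib.MaxSub.Orth
import Cfsg.Agent.Lib.PrimeDim.OrthProper

/-!
helper7: every orbit of `Ω(Q)` on non-zero vectors has at least `q ^ (n - 2)` elements, so `Ω(Q)` preserves no
decomposition and no tensor product (any characteristic).
-/

set_option autoImplicit false
set_option linter.unusedSectionVars false

namespace Cfsg.Agent.Lib.OrthAny

open Matrix Cfsg.Agent.Lib.MaxSub
open QuadraticMap (polarBilin)
open scoped MatrixGroups Matrix Kronecker

attribute [-simp] QuadraticMap.polarBilin_apply_apply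

variable {ι : Type} [Fintype ι] [DecidableEq ι] {F : Type*} [Field F] [Fintype F] {Q : QuadraticForm F (ι → F)}

theorem orbit_bound (hN : (polarBilin Q).Nondegenerate) (hn : 7 ≤ Fintype.card ι) {d : ι → F} (hd0 : d ≠ 0)
    (S : Finset (ι → F)) (hS : ∀ g ∈ Cfsg.Geo.omegaGL ⇑Q, (g : Matrix ι ι F) *ᵥ d ∈ S) :
    Fintype.card F ^ (Fintype.card ι - 2) ≤ S.card := by
  classical
  obtain ⟨u, hu, hdu⟩ := PrimeDim.OrthProper.exists_sing_nonorth hN hn hd0
  let φ := (polarBilin Q u).prod (polarBilin Q d)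
  have hC : ∀ c : LinearMap.ker φ, polarBilin Q u c.1 = 0 ∧ polarBilin Q d c.1 = 0 := fun c => by
    have := c.2
    simpa [φ, LinearMap.mem_ker, Prod.ext_iff] using this
  let f : LinearMap.ker φ → S := fun c =>
    ⟨_, hS _ (Orth.eichGL_mem_omega hN hn hu (hC c).1)⟩
  have hf : ∀ c, (f c : ι → F) = d + polarBilin Q d u • c.1 - (Q c.1 * polarBilin Q d u) • u := fun c => by
    show (Orth.eichGL Q u c.1 hu (hC c).1 : Matrix ι ι F) *ᵥ d = _
    rw [Orth.eichGL_mulVec, (hC c).2, zero_add]
  have hinj : Function.Injective f := fun a b hab => by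
    have h1 : (f a : ι → F) = f b := by rw [hab]
    rw [hf, hf] at h1
    have h3 := congrArg (polarBilin Q d) h1
    rw [map_sub, map_sub, map_add, map_add, map_smul, map_smul, map_smul, map_smul, (hC a).2, (hC b).2,
      smul_eq_mul, smul_eq_mul] at h3
    simp only [smul_eq_mul, mul_zero, add_zero, sub_right_inj, mul_eq_mul_right_iff, hdu, or_false] at h3
    refine Subtype.ext (smul_right_injective _ hdu ?_)
    rw [h3] at h1
    simpa using h1
  have h1 := φ.finrank_range_add_finrank_ker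
  have h3 : Module.finrank F (LinearMap.range φ) ≤ 2 := (Submodule.finrank_le _).trans (by simp)
  rw [Module.finrank_fintype_fun_eq_card] at h1
  have h4 := Fintype.card_le_of_injective f hinj
  rw [Module.card_eq_pow_finrank (K := F), Fintype.card_coe] at h4
  exact (Nat.pow_le_pow_right Fintype.card_pos (by omega)).trans h4

theorem decomp_card {t k : ℕ} {D : Fin t → Submodule F (ι → F)} (hD : Cfsg.Geo.IsMDecomposition k D) :
    t * k = Fintype.card ι := by
  have hdec : DirectSum.IsInternal D :=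
    DirectSum.isInternal_submodule_of_iSupIndep_of_iSup_eq_top hD.indep hD.iSup_eq_top
  have h := (LinearEquiv.ofBijective (DirectSum.coeLinearMap D) hdec).finrank_eq
  simpa [Module.finrank_directSum, hD.finrank_eq] using h

theorem not_le_decompositionStabilizer (hN : (polarBilin Q).Nondegenerate) (hn : 9 ≤ Fintype.card ι)
    {t k : ℕ} {D : Fin t → Submodule F (ι → F)} (hD : Cfsg.Geo.IsMDecomposition k D) :
    ¬ Cfsg.Geo.omegaGL ⇑Q ≤ Cfsg.Geo.decompositionStabilizer D := by
  classical
  intro hle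
  have htk := decomp_card hD
  have ht := hD.two_le
  have hk := hD.pos
  obtain ⟨d, hd, hd0⟩ := (Submodule.ne_bot_iff (D ⟨0, by omega⟩)).mp fun hb => by
    have := hD.finrank_eq ⟨0, by omega⟩
    rw [hb, finrank_bot] at this
    omega
  set S : Finset (ι → F) := Finset.univ.biUnion fun i => Finset.univ.filter (· ∈ D i) with hSdef
  have h1 := orbit_bound hN (by omega) hd0 S fun g hg => by
    obtain ⟨σ, hσ⟩ := hle hg
    refine Finset.mem_biUnion.mpr ⟨σ ⟨0, by omega⟩, Finset.mem_univ _, Finset.mem_filter.mpr ⟨Finset.mem_univ _, ?_⟩⟩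
    rw [← hσ]
    exact ⟨d, hd, Matrix.toLin'_apply _ _⟩
  have h2 : S.card ≤ t * Fintype.card F ^ k := by
    refine Finset.card_biUnion_le.trans (le_of_eq ?_)
    rw [Finset.sum_congr rfl fun i _ => ?_, Finset.sum_const, Finset.card_univ, Fintype.card_fin, smul_eq_mul]
    rw [← Fintype.card_subtype, Module.card_eq_pow_finrank (K := F) (V := D i), hD.finrank_eq]
  set n := Fintype.card ι with hndef
  set q := Fintype.card F with hqdef
  have hq : 2 ≤ q := Fintype.one_lt_card
  have h3 : 2 * k ≤ n := by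
    rw [← htk]; exact Nat.mul_le_mul_right k ht
  have h4 : t ≤ n := by
    rw [← htk]; exact Nat.le_mul_of_pos_right t hk
  have h5 : ∀ m, 3 ≤ m → m + 3 ≤ 2 ^ m - 1 ∧ m + 5 ≤ 2 ^ (m + 1) := by
    intro m hm
    induction m, hm using Nat.le_induction with
    | base => norm_num
    | succ j hj ih => simp only [pow_succ] at ih ⊢; omega
  have h6 : t < 2 ^ (n - 2 - k) := by
    rcases Nat.lt_or_ge k 2 with hk2 | hk2
    · have e1 := h5 (n - 4) (by omega)
      rw [show n - 4 + 1 = n - 3 by omega] at e1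
      rw [show n - 2 - k = n - 3 by omega]
      omega
    · have h9 : 2 * t ≤ n := by
        rw [← htk, mul_comm 2 t]; exact Nat.mul_le_mul_left t hk2
      have e1 := h5 (n - n / 2 - 2) (by omega)
      have e2 : 2 ^ (n - n / 2 - 2) ≤ 2 ^ (n - 2 - k) := Nat.pow_le_pow_right (by norm_num) (by omega)
      omega
  have h7 : t < q ^ (n - 2 - k) := h6.trans_le (Nat.pow_le_pow_left hq _)
  have h8 : t * q ^ k < q ^ (n - 2) := by
    calc t * q ^ k < q ^ (n - 2 - k) * q ^ k := Nat.mul_lt_mul_of_pos_right h7 (pow_pos (by omega) _)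
      _ = q ^ (n - 2) := by rw [← pow_add]; congr 1; omega
  omega

theorem not_le_tensorProductSubgroup (hN : (polarBilin Q).Nondegenerate) (hn : 7 ≤ Fintype.card ι)
    {a b : ℕ} (hab : a + b + 2 < Fintype.card ι) (e : ι ≃ Fin a × Fin b) (P : GL ι F) :
    ¬ Cfsg.Geo.omegaGL ⇑Q ≤ Cfsg.Geo.tensorProductSubgroup a b e P := by
  classical
  intro hle
  haveI : Nonempty ι := Fintype.card_pos_iff.mp (by omega)
  obtain ⟨i₀, j₀⟩ := e (Classical.arbitrary ι)
  let pure : (Fin a → F) × (Fin b → F) → (ι → F) := fun p =>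
    (P : Matrix ι ι F) *ᵥ ((fun r : Fin a × Fin b => p.1 r.1 * p.2 r.2) ∘ e)
  let S : Finset (ι → F) := Finset.univ.image pure
  have hd0 : pure (Pi.single i₀ 1, Pi.single j₀ 1) ≠ 0 := by
    intro h0
    have h1 : ((fun r : Fin a × Fin b => (Pi.single i₀ 1 : Fin a → F) r.1 * (Pi.single j₀ 1 : Fin b → F) r.2) ∘ e) = 0 := by
      have := congrArg (fun z => ((P⁻¹ : GL ι F) : Matrix ι ι F) *ᵥ z) h0
      simpa [pure, Matrix.mulVec_mulVec, ← Units.val_mul] using this
    have := congrFun h1 (e.symm (i₀, j₀))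
    simp at this
  have h1 := orbit_bound hN hn hd0 S fun g hg => by
    obtain ⟨_, ⟨K, ⟨A, B, hK⟩, rfl⟩, rfl⟩ := hle hg
    refine Finset.mem_image.mpr ⟨((A : Matrix _ _ F) *ᵥ Pi.single i₀ 1, (B : Matrix _ _ F) *ᵥ Pi.single j₀ 1),
      Finset.mem_univ _, ?_⟩
    show _ = ((P * Cfsg.Geo.glReindex e.symm K * P⁻¹ : GL ι F) : Matrix ι ι F) *ᵥ _
    simp only [pure, Units.val_mul, ← Matrix.mulVec_mulVec]
    rw [Matrix.mulVec_mulVec _ ((P⁻¹ : GL ι F) : Matrix ι ι F), ← Units.val_mul, inv_mul_cancel, Units.val_one,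
      Matrix.one_mulVec]
    congr 1
    show _ = Matrix.reindex e.symm e.symm (K : Matrix _ _ F) *ᵥ _
    rw [Matrix.reindex_apply, Equiv.symm_symm, Matrix.submatrix_mulVec_equiv, Function.comp_assoc,
      Equiv.self_comp_symm, Function.comp_id, hK]
    congr 1
    funext r
    simp only [Matrix.mulVec, dotProduct, Fintype.sum_prod_type, Matrix.kroneckerMap_apply, Finset.sum_mul_sum]
    refine Finset.sum_congr rfl fun s _ => Finset.sum_congr rfl fun l _ => ?_
    ring
  have h2 : S.card ≤ Fintype.card F ^ (a + b) := by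
    refine Finset.card_image_le.trans (le_of_eq ?_)
    rw [Finset.card_univ, Fintype.card_prod, Fintype.card_fun, Fintype.card_fun, Fintype.card_fin,
      Fintype.card_fin, pow_add]
  have h3 : Fintype.card F ^ (a + b) < Fintype.card F ^ (Fintype.card ι - 2) :=
    Nat.pow_lt_pow_right Fintype.one_lt_card (by omega)
  omega

end Cfsg.Agent.Lib.OrthAny
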