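import Cfsg.Agent.Lib.PrimeDim.FormDescent
import Cfsg.Agent.Lib.MaxSub.QuadAny

/-!
Descent of quadratic forms to subfields in any dimension and characteristic; a form defined over the subfield of
index two of even dimension is of plus type.
-/

set_option autoImplicit false

namespace Cfsg.Agent.Lib.OrthAny

open Matrix Module
open Cfsg.Geo
open Cfsg.Agent.Lib.MaxSub
open Cfsg.Agent.Lib.PrimeDim.FormDescent
open QuadraticMap (polarBilin)
open scoped MatrixGroups Matrix

attribute [-simp] QuadraticMap.polarBilin_apply_apply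

variable {ι : Type} [Fintype ι] [DecidableEq ι] {F : Type*} [Field F]

theorem quad_nondegenerateForm {Q : QuadraticForm F (ι → F)} (hN : (polarBilin Q).Nondegenerate) :
    IsNondegenerateQuadraticForm (⇑Q) := by
  refine ⟨fun c v => by rw [Cfsg.Agent.Lib.Geometry.quad_smul, pow_two], ⟨?_, ?_, ?_, ?_⟩, fun v hv => ⟨?_, ?_⟩⟩
  · intro x y v; simp only [← QuadraticMap.polarBilin_apply_apply, map_add, LinearMap.add_apply]
  · intro c x v; simp only [← QuadraticMap.polarBilin_apply_apply, map_smul, LinearMap.smul_apply, smul_eq_mul]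
  · intro v x y; simp only [← QuadraticMap.polarBilin_apply_apply, map_add]
  · intro c v x; simp only [← QuadraticMap.polarBilin_apply_apply, map_smul, smul_eq_mul]
  · by_contra hc
    push Not at hc
    exact hv (hN.2 v fun x => by rw [QuadraticMap.polarBilin_apply_apply]; exact hc x)
  · by_contra hc
    push Not at hc
    exact hv (hN.1 v fun x => by rw [QuadraticMap.polarBilin_apply_apply]; exact hc x)

/-- A quadratic form fixed by an absolutely irreducible group realised over a subfield is rational there, up to a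
scalar, in any characteristic. -/
theorem exists_quad_structure [Nonempty ι] {Q : QuadraticForm F (ι → F)} (hN : (polarBilin Q).Nondegenerate)
    (hcard : 2 ≤ Fintype.card ι) {F₀ : Subfield F} {P : Subgroup (GL ι F)}
    (habs : ActsAbsolutelyIrreducibly (matrixSet P)) (hfix : FixesQuadForm (matrixSet P) ⇑Q)
    (hreal : RealisableOver F₀ (matrixSet P)) :
    ∃ (B' : GL ι F) (ζ : F), ζ ≠ 0 ∧ IsQuadFormRationalStructure (fun v => ζ * Q v) F₀ B' ∧
      ∀ h : GL ι F, (∀ x ∈ P, h * x * h⁻¹ ∈ P) → h ∈ subfieldSubgroup F₀ B' := by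
  classical
  obtain ⟨B, hB⟩ := hreal
  set b : Matrix ι ι F := (B : Matrix ι ι F)
  set b' : Matrix ι ι F := ((B⁻¹ : GL ι F) : Matrix ι ι F) with hb'
  have hB' : ∀ p ∈ P, Rat0 F₀ (b * (p : Matrix ι ι F) * b') := fun p hp => hB _ ⟨p, hp, rfl⟩
  have hQ := quad_nondegenerateForm hN
  set f := QuadraticMap.polar (⇑Q) with hf
  have hb := hQ.polar_bilinear
  have hform := form_eq (RingHom.id F) f hb.add_left hb.smul_left hb.add_right hb.smul_right
  have hfixf : FixesForm (matrixSet P) f := fun s hs u v => by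
    simp only [hf, QuadraticMap.polar, ← Matrix.mulVec_add, hfix s hs]
  obtain ⟨c, hc, hcr⟩ := exists_smul_gram P (RingHom.id F) (fun a ha => ha) habs hB'
    (gram_isUnit _ f hform hQ.nondegenerate) (fixes_gram _ f hform hfixf)
  refine ⟨B⁻¹, c, hc, ?_, fun h hn => mem_subfieldSubgroup_of_normalises P habs hB' hn⟩
  let R : Submodule F₀ (ι → F) :=
    { carrier := {u | ∀ i, u i ∈ F₀}
      add_mem' := fun {u v} hu hv i => F₀.add_mem (hu i) (hv i)
      zero_mem' := fun i => F₀.zero_mem
      smul_mem' := fun a u hu i => F₀.mul_mem a.2 (hu i) }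
  have hpol : ∀ u ∈ R, ∀ v ∈ R, c * f (b' *ᵥ u) (b' *ᵥ v) ∈ F₀ := by
    intro u hu v hv
    have e : c * f (b' *ᵥ u) (b' *ᵥ v) = u ⬝ᵥ (c • (b'ᵀ * gramMatrix f * b'.map (RingHom.id F))) *ᵥ v := by
      rw [gram_congr (RingHom.id F) f hform, Matrix.smul_mulVec, dotProduct_smul, smul_eq_mul]; rfl
    rw [e]
    exact F₀.sum_mem fun i _ => F₀.mul_mem (hu i) (F₀.sum_mem fun j _ => F₀.mul_mem (hcr i j) (hv j))
  let S : Submodule F₀ (ι → F) :=
    { carrier := {u | u ∈ R ∧ c * Q (b' *ᵥ u) ∈ F₀}
      zero_mem' := ⟨R.zero_mem, by simp⟩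
      add_mem' := fun {u v} hu hv => ⟨R.add_mem hu.1 hv.1, by
        rw [Matrix.mulVec_add, Cfsg.Agent.Lib.Geometry.quad_add, mul_add, mul_add]
        exact F₀.add_mem (F₀.add_mem hu.2 hv.2) (hpol u hu.1 v hv.1)⟩
      smul_mem' := fun a u hu => ⟨R.smul_mem a hu.1, by
        rw [show a • u = (a : F) • u from rfl, Matrix.mulVec_smul, Cfsg.Agent.Lib.Geometry.quad_smul,
          show c * (((a : F) * (a : F)) * Q (b' *ᵥ u)) = ((a : F) * a) * (c * Q (b' *ᵥ u)) by ring]
        exact F₀.mul_mem (F₀.mul_mem a.2 a.2) hu.2⟩ }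
  -- rational vectors in the span of the good ones are good
  have hspan : ∀ u ∈ R, u ∈ Submodule.span F (S : Set (ι → F)) → u ∈ S := by
    intro u hu hmem
    obtain ⟨φ, hφ1, hφr, hφ⟩ := exists_functional F₀ (a := (1 : F)) one_ne_zero
    have key : ∀ w ∈ Submodule.span F (S : Set (ι → F)), (fun i => φ (w i)) ∈ S := by
      intro w hw
      induction hw using Submodule.span_induction with
      | mem x hx =>
        have : (fun i => φ (x i)) = x := funext fun i => by
          conv_lhs => rw [← one_mul (x i), hφ _ _ (hx.1 i), hφ1, one_mul]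
        rw [this]; exact hx
      | zero => simp only [Pi.zero_apply, map_zero]; exact S.zero_mem
      | add x y _ _ hx hy =>
        have : (fun i => φ ((x + y) i)) = (fun i => φ (x i)) + fun i => φ (y i) := funext fun i => map_add φ _ _
        rw [this]; exact S.add_mem hx hy
      | smul a x hxm hx =>
        clear hx
        induction hxm using Submodule.span_induction generalizing a with
        | mem x hx =>
          have : (fun i => φ ((a • x) i)) = (⟨φ a, hφr a⟩ : F₀) • x := funext fun i => by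
            show φ (a * x i) = φ a * x i
            exact hφ _ _ (hx.1 i)
          rw [this]; exact S.smul_mem _ hx
        | zero => simp only [smul_zero, Pi.zero_apply, map_zero]; exact S.zero_mem
        | add x y _ _ hx hy =>
          have : (fun i => φ ((a • (x + y)) i)) = (fun i => φ ((a • x) i)) + fun i => φ ((a • y) i) :=
            funext fun i => by rw [smul_add]; exact map_add φ _ _
          rw [this]; exact S.add_mem (hx a) (hy a)
        | smul d x _ hx =>
          rw [smul_smul]; exact hx (a * d)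
    have : (fun i => φ (u i)) = u := funext fun i => by
      conv_lhs => rw [← one_mul (u i), hφ _ _ (hu i), hφ1, one_mul]
    exact this ▸ key u hmem
  have hinv : ∀ u ∈ R, ∀ p ∈ P, (b * (p : Matrix ι ι F) * b') *ᵥ u - u ∈ Submodule.span F (S : Set (ι → F)) := by
    intro u hu p hp
    set u' := (b * (p : Matrix ι ι F) * b') *ᵥ u
    have hu' : u' ∈ R := fun i => F₀.sum_mem fun j _ => F₀.mul_mem (hB' p hp i j) (hu j)
    refine Submodule.subset_span ⟨R.sub_mem hu' hu, ?_⟩
    have e : b' *ᵥ u' = (p : Matrix ι ι F) *ᵥ (b' *ᵥ u) := by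
      simp only [u', Matrix.mulVec_mulVec, b, b', ← mul_assoc, Units.inv_mul, one_mul]
    have e2 : Q (b' *ᵥ (u' - u)) = 2 * Q (b' *ᵥ u) - f (b' *ᵥ u') (b' *ᵥ u) := by
      have h1 := Cfsg.Agent.Lib.Geometry.quad_add Q (b' *ᵥ u') ((-1 : F) • (b' *ᵥ u))
      have h3 : Q (b' *ᵥ u') = Q (b' *ᵥ u) := by rw [e]; exact hfix _ ⟨p, hp, rfl⟩ _
      rw [Cfsg.Agent.Lib.Geometry.quad_smul, map_smul, smul_eq_mul] at h1
      rw [Matrix.mulVec_sub, show b' *ᵥ u' - b' *ᵥ u = b' *ᵥ u' + (-1 : F) • (b' *ᵥ u) by module, h1, h3,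
        QuadraticMap.polarBilin_apply_apply]
      ring
    have e3 : f (b' *ᵥ u) (b' *ᵥ u) = 2 * Q (b' *ᵥ u) := by
      rw [hf, ← QuadraticMap.polarBilin_apply_apply, Cfsg.Agent.Lib.Geometry.quad_polar_self]
    rw [e2, ← e3, mul_sub]
    exact F₀.sub_mem (hpol u hu u hu) (hpol u' hu' u hu)
  intro u hu
  show c * Q (b' *ᵥ u) ∈ F₀
  refine (hspan u hu ?_).2
  let W : Submodule F (ι → F) := Submodule.span F (S : Set (ι → F))
  let W' : Submodule F (ι → F) := W.map (Matrix.toLin' b')
  have hRsp : ∀ v : ι → F, v ∈ Submodule.span F (R : Set (ι → F)) := fun v => by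
    rw [pi_eq_sum_univ' v]
    exact Submodule.sum_mem _ fun i _ => Submodule.smul_mem _ _ (Submodule.subset_span fun j => by
      rcases eq_or_ne j i with rfl | hne
      · simp [F₀.one_mem]
      · simp [hne, F₀.zero_mem])
  have hgen : ∀ p ∈ P, ∀ w : ι → F, (b * (p : Matrix ι ι F) * b') *ᵥ w - w ∈ W := by
    intro p hp w
    have hw := hRsp w
    induction hw using Submodule.span_induction with
    | mem x hx => exact hinv x hx p hp
    | zero => simp
    | add x y _ _ hx hy =>
      rw [Matrix.mulVec_add, show ∀ a a' z z' : ι → F, a + a' - (z + z') = (a - z) + (a' - z') from fun _ _ _ _ => by abel]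
      exact W.add_mem hx hy
    | smul a x _ hx => rw [Matrix.mulVec_smul, ← smul_sub]; exact W.smul_mem a hx
  rcases habs.1 W' (by
    rintro _ ⟨p, hp, rfl⟩ _ ⟨_, ⟨w, hw, rfl⟩, rfl⟩
    have h1 := W.add_mem (hgen p hp w) hw
    rw [sub_add_cancel] at h1
    refine ⟨_, h1, ?_⟩
    simp only [Matrix.toLin'_apply, Matrix.mulVec_mulVec, b, b', ← mul_assoc, Units.inv_mul, one_mul]) with hW | hW
  · exfalso
    have hinj : Function.Injective (Matrix.toLin' b') := fun x y h => by
      have := congrArg (fun z => b *ᵥ z) h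
      simpa [Matrix.toLin'_apply, Matrix.mulVec_mulVec, b, b'] using this
    have hW0 : W = ⊥ := Submodule.map_injective_of_injective hinj (hW.trans (Submodule.map_bot _).symm)
    have hone : ∀ p ∈ P, (p : Matrix ι ι F) = 1 := by
      intro p hp
      have h1 : b * (p : Matrix ι ι F) * b' = 1 := Matrix.ext_iff_mulVec.2 fun w => by
        have := hgen p hp w
        rw [hW0, Submodule.mem_bot, sub_eq_zero] at this
        rw [this, Matrix.one_mulVec]
      have h2 := congrArg (fun X => b' * X * b) h1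
      simpa [b, b', ← mul_assoc, mul_assoc (b' * b * (p : Matrix ι ι F))] using h2
    let v : ι → F := Pi.single (Classical.arbitrary ι) 1
    have hv : v ≠ 0 := by simp [v]
    rcases habs.1 (F ∙ v) (by
      rintro _ ⟨p, hp, rfl⟩ _ ⟨w, hw, rfl⟩
      show Matrix.toLin' (p : Matrix ι ι F) w ∈ F ∙ v
      rwa [hone p hp, Matrix.toLin'_one, LinearMap.id_apply]) with h | h
    · exact hv (Submodule.span_singleton_eq_bot.mp h)
    · have := finrank_span_singleton (K := F) hv
      rw [h, finrank_top, Module.finrank_fintype_fun_eq_card] at this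
      omega
  · obtain ⟨w, hw, e⟩ := (hW.symm ▸ Submodule.mem_top : b' *ᵥ u ∈ W')
    have h1 := congrArg (fun z => b *ᵥ z) e
    simp [Matrix.toLin'_apply, Matrix.mulVec_mulVec, b, b'] at h1
    exact h1 ▸ hw

open Polynomial in
/-- A quadratic over the subfield of index two has a root. -/
theorem exists_root [Fintype F] {F₀ : Subfield F} (hc : Fintype.card F = Nat.card F₀ ^ 2) (a b : F₀) :
    ∃ x : F, x ^ 2 + (a : F) * x + (b : F) = 0 := by
  classical
  haveI : Fintype F₀ := Fintype.ofFinite F₀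
  by_cases h0 : ∃ x : F₀, x ^ 2 + a * x + b = 0
  · obtain ⟨x, hx⟩ := h0
    exact ⟨x, by exact_mod_cast hx⟩
  push Not at h0
  set p : F₀[X] := X ^ 2 + Polynomial.C a * X + Polynomial.C b with hp
  have hdeg : p.natDegree = 2 := by rw [hp]; compute_degree!
  have hmon : p.Monic := by
    unfold Polynomial.Monic Polynomial.leadingCoeff
    rw [hdeg, hp]; simp
  have hirr : Irreducible p :=
    (hmon.irreducible_iff_roots_eq_zero_of_degree_le_three (by omega) (by omega)).2
      (Multiset.eq_zero_of_forall_notMem fun x hx => h0 x (by simpa [hp] using (Polynomial.mem_roots'.1 hx).2))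
  haveI : Fact (Irreducible p) := ⟨hirr⟩
  let pb := AdjoinRoot.powerBasis hmon.ne_zero
  haveI : Module.Finite F₀ (AdjoinRoot p) := pb.finite
  haveI : Finite (AdjoinRoot p) := Module.finite_of_finite F₀
  haveI : Fintype (AdjoinRoot p) := Fintype.ofFinite _
  have hcard : Fintype.card (AdjoinRoot p) = Fintype.card F := by
    rw [Module.card_eq_pow_finrank (K := F₀) (V := AdjoinRoot p), pb.finrank, AdjoinRoot.powerBasis_dim, hdeg, hc,
      Nat.card_eq_fintype_card]
  have hdvd : p ∣ X ^ Fintype.card F - X := by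
    rw [← AdjoinRoot.mk_eq_zero, map_sub, map_pow, AdjoinRoot.mk_X, ← hcard, FiniteField.pow_card, sub_self]
  have hsplit : (X ^ Fintype.card F - X : F[X]).Splits := by
    rw [Polynomial.splits_iff_card_roots, FiniteField.roots_X_pow_card_sub_X,
      FiniteField.X_pow_card_sub_X_natDegree_eq _ Fintype.one_lt_card]
    rfl
  have hdvd' : p.map F₀.subtype ∣ X ^ Fintype.card F - X := by
    simpa using Polynomial.map_dvd F₀.subtype hdvd
  obtain ⟨x, hx⟩ := Polynomial.Splits.exists_eval_eq_zero
    (Polynomial.Splits.of_dvd hsplit (FiniteField.X_pow_card_sub_X_ne_zero F Fintype.one_lt_card) hdvd')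
    (by rw [Polynomial.degree_map, Polynomial.degree_eq_natDegree hmon.ne_zero, hdeg]; exact two_ne_zero)
  exact ⟨x, by simpa [hp] using hx⟩

set_option maxHeartbeats 1000000 in
/-- A form defined over the subfield of index two is of plus type in even dimension. -/
theorem plus_of_index_two [Fintype F] {Q : QuadraticForm F (ι → F)} (hN : (polarBilin Q).Nondegenerate)
    (heven : Even (Fintype.card ι)) {F₀ : Subfield F} (hc : Fintype.card F = Nat.card F₀ ^ 2) {B : GL ι F} {ζ : F}
    (hζ : ζ ≠ 0) (hrat : IsQuadFormRationalStructure (fun v => ζ * Q v) F₀ B) : IsPlusTypeOn (⇑Q) ⊤ := by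
  classical
  haveI : Fintype F₀ := Fintype.ofFinite F₀
  set b : Matrix ι ι F := (B : Matrix ι ι F)
  let cst : (ι → F₀) →ₗ[F₀] (ι → F) := (Algebra.linearMap F₀ F).compLeft ι
  have hcst : ∀ u i, cst u i = (u i : F) := fun u i => rfl
  let g : (ι → F₀) → F₀ := fun u => ⟨ζ * Q (b *ᵥ cst u), hrat (cst u) fun i => (u i).2⟩
  have hpolar : ∀ u v, ((QuadraticMap.polar g u v : F₀) : F) = ζ * polarBilin Q (b *ᵥ cst u) (b *ᵥ cst v) := by
    intro u v
    simp only [QuadraticMap.polar, g, map_add, Matrix.mulVec_add, Subfield.coe_sub,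
      QuadraticMap.polarBilin_apply_apply]
    ring
  let Q₀ : QuadraticForm F₀ (ι → F₀) := QuadraticMap.ofPolar g
    (fun a x => Subtype.ext (by
      simp only [g, map_smul, smul_eq_mul, Subfield.coe_mul]
      rw [show a • cst x = (a : F) • cst x from rfl, Matrix.mulVec_smul, Cfsg.Agent.Lib.Geometry.quad_smul]
      ring))
    (fun x x' y => Subtype.ext (by
      rw [Subfield.coe_add, hpolar, hpolar, hpolar, map_add, Matrix.mulVec_add, map_add, LinearMap.add_apply, mul_add]))
    (fun a x y => Subtype.ext (by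
      rw [smul_eq_mul, Subfield.coe_mul, hpolar, hpolar, map_smul, show a • cst x = (a : F) • cst x from rfl,
        Matrix.mulVec_smul, map_smul, LinearMap.smul_apply, smul_eq_mul]
      ring))
  have hQ₀ : ∀ u, ((Q₀ u : F₀) : F) = ζ * Q (b *ᵥ cst u) := fun u => rfl
  have hpol₀ : ∀ u v, ((polarBilin Q₀ u v : F₀) : F) = ζ * polarBilin Q (b *ᵥ cst u) (b *ᵥ cst v) := fun u v => by
    rw [QuadraticMap.polarBilin_apply_apply]; exact hpolar u v
  have hb : ∀ x, b *ᵥ (((B⁻¹ : GL ι F) : Matrix ι ι F) *ᵥ x) = x := fun x => by simp [b, Matrix.mulVec_mulVec]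
  have hnd : (polarBilin Q₀).Nondegenerate := by
    have key : ∀ u, (∀ v, polarBilin Q₀ u v = 0) → u = 0 := by
      intro u hu
      have h1 : b *ᵥ cst u = 0 := hN.1 _ fun y => by
        rw [← hb y, pi_eq_sum_univ' (((B⁻¹ : GL ι F) : Matrix ι ι F) *ᵥ y), Matrix.mulVec_sum, map_sum]
        refine Finset.sum_eq_zero fun i _ => ?_
        have h2 := congrArg (fun z : F₀ => (z : F)) (hu (Pi.single i 1))
        rw [hpol₀, show cst (Pi.single i 1) = Pi.single i 1 from funext fun j => by
          rw [hcst]; rcases eq_or_ne j i with rfl | hne <;> simp [*]] at h2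
        rw [Matrix.mulVec_smul, map_smul, smul_eq_mul, (mul_eq_zero.1 h2).resolve_left hζ, mul_zero]
      have h2 := congrArg (fun z => ((B⁻¹ : GL ι F) : Matrix ι ι F) *ᵥ z) h1
      simp only [Matrix.mulVec_mulVec, b, Units.inv_mul, Matrix.one_mulVec, Matrix.mulVec_zero] at h2
      funext i
      exact Subtype.ext (congrFun h2 i)
    exact ⟨key, fun v hv => key v fun u => by rw [Cfsg.Agent.Lib.Geometry.quad_polar_comm]; exact hv u⟩
  let T : Submodule F₀ (ι → F₀) → Submodule F (ι → F) := fun U => Submodule.span F (cst '' (U : Set (ι → F₀)))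
  have hcoord : ∀ (U : Submodule F₀ (ι → F₀)) (φ : F →ₗ[F₀] F) (hr : ∀ x, φ x ∈ F₀)
      (_ : ∀ (c x : F), c ∈ F₀ → φ (x * c) = φ x * c), ∀ x ∈ T U, (fun i => (⟨φ (x i), hr _⟩ : F₀)) ∈ U := by
    intro U φ hr hm x hx
    suffices h : ∀ a : F, (fun i => (⟨φ (a * x i), hr _⟩ : F₀)) ∈ U by simpa using h 1
    induction hx using Submodule.span_induction with
    | mem y hy =>
      obtain ⟨u, hu, rfl⟩ := hy
      intro a
      have : (fun i => (⟨φ (a * cst u i), hr _⟩ : F₀)) = (⟨φ a, hr a⟩ : F₀) • u := funext fun i =>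
        Subtype.ext (hm _ _ (u i).2)
      rw [this]; exact U.smul_mem _ hu
    | zero => intro a; convert U.zero_mem using 1; funext i; exact Subtype.ext (by simp)
    | add y z _ _ hy hz =>
      intro a
      convert U.add_mem (hy a) (hz a) using 1
      funext i; exact Subtype.ext (by simp [mul_add])
    | smul d y _ hy =>
      intro a
      convert hy (a * d) using 1
      funext i; exact Subtype.ext (by simp [mul_assoc])
  have hfin : ∀ U : Submodule F₀ (ι → F₀), Module.finrank F (T U) = Module.finrank F₀ U := by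
    intro U
    let bU := Module.finBasis F₀ U
    have hli : LinearIndependent F fun j => cst (bU j : ι → F₀) := by
      rw [Fintype.linearIndependent_iff]
      intro a ha j
      by_contra hj
      obtain ⟨φ, hφ1, hφr, hφ⟩ := exists_functional F₀ hj
      have hsum : ∑ k, (⟨φ (a k), hφr _⟩ : F₀) • (bU k) = 0 := Subtype.ext (funext fun i => Subtype.ext (by
        have h1 := congrArg φ (congrFun ha i)
        simp only [Finset.sum_apply, Pi.smul_apply, smul_eq_mul, Pi.zero_apply, map_zero, map_sum, hcst] at h1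
        simp only [Submodule.coe_sum, Submodule.coe_smul, Finset.sum_apply, Pi.smul_apply, smul_eq_mul,
          AddSubmonoidClass.coe_finsetSum, Subfield.coe_mul, ZeroMemClass.coe_zero, Pi.zero_apply]
        rw [← h1]
        exact Finset.sum_congr rfl fun k _ => (hφ _ _ ((bU k : ι → F₀) i).2).symm))
      have := (Fintype.linearIndependent_iff.1 bU.linearIndependent) _ hsum j
      exact one_ne_zero (hφ1.symm.trans (congrArg Subtype.val this))
    have hT : T U = Submodule.span F (Set.range fun j => cst (bU j : ι → F₀)) := by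
      refine le_antisymm (Submodule.span_le.2 ?_) (Submodule.span_mono ?_)
      · rintro _ ⟨u, hu, rfl⟩
        have : u = ∑ j, (bU.repr ⟨u, hu⟩ j) • (bU j : ι → F₀) := by
          have h := congrArg Subtype.val (bU.sum_repr ⟨u, hu⟩)
          simp only [Submodule.coe_sum, Submodule.coe_smul] at h
          exact h.symm
        rw [SetLike.mem_coe, this, map_sum]
        refine Submodule.sum_mem _ fun j _ => ?_
        rw [map_smul]
        exact Submodule.smul_mem _ ((bU.repr ⟨u, hu⟩ j : F₀) : F) (Submodule.subset_span ⟨j, rfl⟩)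
      · rintro _ ⟨j, rfl⟩; exact ⟨_, (bU j).2, rfl⟩
    rw [hT, finrank_span_eq_card hli, Fintype.card_fin]
  have hts : ∀ U : Submodule F₀ (ι → F₀), QuadType.TS Q₀ U → ∀ x ∈ T U, Q (b *ᵥ x) = 0 ∧
      ∀ y ∈ T U, polarBilin Q (b *ᵥ x) (b *ᵥ y) = 0 := by
    intro U hU x hx
    have h2 : ∀ u ∈ U, ∀ y ∈ T U, polarBilin Q (b *ᵥ cst u) (b *ᵥ y) = 0 := by
      intro u hu y hy
      induction hy using Submodule.span_induction with
      | mem z hz =>
        obtain ⟨v, hv, rfl⟩ := hz
        have := congrArg (fun z : F₀ => (z : F)) (QuadType.ts_polar Q₀ hU hu hv)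
        rw [hpol₀] at this
        exact (mul_eq_zero.1 this).resolve_left hζ
      | zero => simp
      | add z z' _ _ hz hz' => rw [Matrix.mulVec_add, map_add, hz, hz', add_zero]
      | smul a z _ hz => rw [Matrix.mulVec_smul, map_smul, hz, smul_zero]
    induction hx using Submodule.span_induction with
    | mem z hz =>
      obtain ⟨u, hu, rfl⟩ := hz
      refine ⟨?_, h2 u hu⟩
      have := congrArg (fun z : F₀ => (z : F)) (hU u hu)
      rw [hQ₀] at this
      exact (mul_eq_zero.1 this).resolve_left hζ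
    | zero => simp
    | add z z' _ hz' hz hz2 =>
      refine ⟨?_, fun y hy => by rw [Matrix.mulVec_add, map_add, LinearMap.add_apply, hz.2 y hy, hz2.2 y hy, add_zero]⟩
      rw [Matrix.mulVec_add, Cfsg.Agent.Lib.Geometry.quad_add, hz.1, hz2.1, hz.2 z' hz', zero_add, zero_add]
    | smul a z _ hz =>
      refine ⟨?_, fun y hy => by rw [Matrix.mulVec_smul, map_smul, LinearMap.smul_apply, hz.2 y hy, smul_zero]⟩
      rw [Matrix.mulVec_smul, Cfsg.Agent.Lib.Geometry.quad_smul, hz.1, mul_zero]
  have hinj : Function.Injective (Matrix.toLin' b) := fun x y h => by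
    have := congrArg (fun z => ((B⁻¹ : GL ι F) : Matrix ι ι F) *ᵥ z) h
    simpa [Matrix.toLin'_apply, Matrix.mulVec_mulVec, b] using this
  by_cases hp : QuadType.Plus Q₀ ⊤
  · obtain ⟨U, -, hU, hUd⟩ := hp
    refine ⟨(T U).map (Matrix.toLin' b), le_top, ?_, ?_⟩
    · rintro _ ⟨x, hx, rfl⟩
      exact (hts U hU x hx).1
    · rw [← (Submodule.equivMapOfInjective _ hinj _).finrank_eq, hfin, hUd]
      simp
  obtain ⟨P, E, hP, ⟨U, hUP, hU, hUd⟩, hE, hEd, hEa, hEP, -, hPd⟩ :=
    QuadAny.decomp Q₀ hnd (Fintype.card ι) (W := ⊤) (by simp) (QuadType.nd_top Q₀ hnd) heven hp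
  let bE := Module.finBasisOfFinrankEq F₀ E hEd
  set e : ι → F₀ := (bE 0 : ι → F₀) with he
  set f : ι → F₀ := (bE 1 : ι → F₀) with hf
  have he0 : Q₀ e ≠ 0 := fun h => bE.ne_zero 0 (Subtype.ext (hEa e (bE 0).2 h))
  obtain ⟨x, hx⟩ := exists_root hc (polarBilin Q₀ e f / Q₀ e) (Q₀ f / Q₀ e)
  set w : ι → F := x • cst e + cst f with hw
  have heq : ∀ z : ι → F₀, z ∈ U → ∀ v ∈ E, polarBilin Q (b *ᵥ cst v) (b *ᵥ cst z) = 0 := by
    intro z hz v hv
    have h1 := QuadType.mem_perp' Q₀ (hEP hv) (hUP hz)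
    have := congrArg (fun z : F₀ => (z : F)) h1
    rw [hpol₀] at this
    exact (mul_eq_zero.1 this).resolve_left hζ
  have hQw : Q (b *ᵥ w) = 0 := by
    have h1 : ζ * Q (b *ᵥ w) = ((Q₀ e : F₀) : F) * x ^ 2 + ((polarBilin Q₀ e f : F₀) : F) * x + ((Q₀ f : F₀) : F) := by
      rw [hQ₀, hQ₀, hpol₀, hw, Matrix.mulVec_add, Matrix.mulVec_smul, Cfsg.Agent.Lib.Geometry.quad_add,
        Cfsg.Agent.Lib.Geometry.quad_smul, map_smul, LinearMap.smul_apply, smul_eq_mul]
      ring
    have h2 : ((Q₀ e : F₀) : F) ≠ 0 := fun h => he0 (Subtype.ext h)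
    have h3 : ζ * Q (b *ᵥ w) = 0 := by
      rw [h1]
      push_cast at hx
      field_simp at hx
      linear_combination hx
    exact (mul_eq_zero.1 h3).resolve_left hζ
  have hwU : w ∉ T U := by
    intro hmem
    obtain ⟨φ, hφ1, hφr, hφ⟩ := exists_functional F₀ (a := (1 : F)) one_ne_zero
    have h1 := hcoord U φ hφr hφ w hmem
    have h2 : (fun i => (⟨φ (w i), hφr _⟩ : F₀)) = (⟨φ x, hφr x⟩ : F₀) • e + f := funext fun i => Subtype.ext (by
      show φ (x * (e i : F) + (f i : F)) = φ x * (e i : F) + (f i : F)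
      rw [map_add, hφ _ _ (e i).2]
      congr 1
      conv_lhs => rw [← one_mul (f i : F), hφ _ _ (f i).2, hφ1, one_mul])
    rw [h2] at h1
    set v := (⟨φ x, hφr x⟩ : F₀) • e + f
    have hvE : v ∈ E := E.add_mem (E.smul_mem _ (bE 0).2) (bE 1).2
    have hv0 : v = 0 := hEa v hvE (hU v h1)
    have h3 : (⟨φ x, hφr x⟩ : F₀) • bE 0 + (1 : F₀) • bE 1 = 0 := by
      rw [one_smul]; exact Subtype.ext hv0
    have := Fintype.linearIndependent_iff.1 bE.linearIndependent ![⟨φ x, hφr x⟩, 1] (by
      rw [Fin.sum_univ_two]; exact h3) 1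
    exact one_ne_zero this
  refine ⟨(T U ⊔ F ∙ w).map (Matrix.toLin' b), le_top, ?_, ?_⟩
  · rintro _ ⟨y, hy, rfl⟩
    obtain ⟨z, hz, y', hy', rfl⟩ := Submodule.mem_sup.1 hy
    obtain ⟨a, rfl⟩ := Submodule.mem_span_singleton.1 hy'
    have hwz : polarBilin Q (b *ᵥ z) (b *ᵥ w) = 0 := by
      clear hy
      induction hz using Submodule.span_induction with
      | mem z hz =>
        obtain ⟨u, hu, rfl⟩ := hz
        rw [Cfsg.Agent.Lib.Geometry.quad_polar_comm, hw, Matrix.mulVec_add, Matrix.mulVec_smul, map_add, map_smul,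
          LinearMap.add_apply, LinearMap.smul_apply, heq u hu e (bE 0).2, heq u hu f (bE 1).2, smul_zero, add_zero]
      | zero => simp
      | add p r _ _ h1 h2 => rw [Matrix.mulVec_add, map_add, LinearMap.add_apply, h1, h2, add_zero]
      | smul d p _ h1 => rw [Matrix.mulVec_smul, map_smul, LinearMap.smul_apply, h1, smul_zero]
    rw [Matrix.toLin'_apply, Matrix.mulVec_add, Matrix.mulVec_smul, Cfsg.Agent.Lib.Geometry.quad_add,
      Cfsg.Agent.Lib.Geometry.quad_smul, (hts U hU z hz).1, hQw, map_smul, hwz, mul_zero, smul_zero, add_zero,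
      add_zero]
  · have hw0 : w ≠ 0 := fun h => hwU (h ▸ Submodule.zero_mem _)
    have hdis : T U ⊓ F ∙ w = ⊥ := by
      rw [Submodule.eq_bot_iff]
      rintro y ⟨h1, h2⟩
      obtain ⟨a, rfl⟩ := Submodule.mem_span_singleton.1 h2
      by_contra hy
      have ha : a ≠ 0 := fun h => hy (by rw [h, zero_smul])
      exact hwU (by simpa [smul_smul, inv_mul_cancel₀ ha] using (T U).smul_mem a⁻¹ h1)
    have h1 := Submodule.finrank_sup_add_finrank_inf_eq (T U) (F ∙ w)
    rw [hdis, finrank_bot, finrank_span_singleton hw0, hfin] at h1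
    rw [← (Submodule.equivMapOfInjective _ hinj _).finrank_eq, finrank_top, Module.finrank_fintype_fun_eq_card]
    omega

end Cfsg.Agent.Lib.OrthAny
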