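import Cfsg.Agent.Lib.MaxSub.Orth
import Cfsg.Agent.Lib.Geometry.MaxIsotropic
import Cfsg.Agent.Lib.FusionControl.OmegaRankMinus

/-!
No element of `Ω` interchanges two complementary totally singular subspaces of odd dimension.
-/

set_option autoImplicit false
set_option linter.unusedSectionVars false

namespace Cfsg.Agent.Lib.OrthAny

open Matrix Module
open Cfsg.Agent.Lib.MaxSub
open QuadraticMap (polarBilin)
open scoped MatrixGroups Matrix

attribute [-simp] QuadraticMap.polarBilin_apply_apply

variable {F : Type*} [Field F] {ι : Type} [Fintype ι] [DecidableEq ι]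

/-- Elements of `Ω` have determinant one. -/
theorem det_omegaGL {Q : QuadraticForm F (ι → F)} {g : GL ι F} (hg : g ∈ Cfsg.Geo.omegaGL ⇑Q) :
    Matrix.GeneralLinearGroup.det g = 1 := by
  obtain ⟨x, hx, rfl⟩ := hg
  let φ : ↥(Cfsg.isometryGroup F ⇑Q) →* Fˣ :=
    (Matrix.GeneralLinearGroup.det (n := ι) (R := F)).comp (Cfsg.isometryGroup F ⇑Q).subtype
  exact MonoidHom.mem_ker.1 (Abelianization.commutator_subset_ker φ hx)

theorem det_swapBlocks {κ R : Type*} [Fintype κ] [DecidableEq κ] [CommRing R] (A : Matrix κ κ R) :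
    (Matrix.fromBlocks 0 A (1 : Matrix κ κ R) 0).det = (-1) ^ Fintype.card κ * A.det := by
  have e : Matrix.fromBlocks 0 A (1 : Matrix κ κ R) 0 = Matrix.fromBlocks A 0 0 (1 : Matrix κ κ R) * (Matrix.fromBlocks 1 1 0 (1 : Matrix κ κ R) *
      Matrix.fromBlocks 1 0 (-1) 1 * Matrix.fromBlocks 1 1 0 1 * Matrix.fromBlocks (-1) 0 0 1) := by
    simp [Matrix.fromBlocks_multiply]
  rw [e, Matrix.det_mul, Matrix.det_mul, Matrix.det_mul, Matrix.det_mul, Matrix.det_fromBlocks_zero₂₁,
    Matrix.det_fromBlocks_zero₂₁, Matrix.det_fromBlocks_zero₂₁, Matrix.det_fromBlocks_zero₁₂, Matrix.det_neg]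
  simp [mul_comm]

/-- No element of `Ω` interchanges two complementary totally singular subspaces of odd dimension. -/
theorem swap_not_mem_omega [Finite F] {Q : QuadraticForm F (ι → F)} (hN : (polarBilin Q).Nondegenerate)
    (hn : 5 ≤ Fintype.card ι) {U U2 : Submodule F (ι → F)} (hc : IsCompl U U2) (hU : ∀ u ∈ U, Q u = 0)
    (hU2 : ∀ u ∈ U2, Q u = 0) (hodd : Odd (finrank F U)) {g : GL ι F} (hg : g ∈ Cfsg.Geo.omegaGL ⇑Q)
    (h1 : ∀ u ∈ U, (g : Matrix ι ι F) *ᵥ u ∈ U2) (h2 : ∀ u ∈ U2, (g : Matrix ι ι F) *ᵥ u ∈ U) : False := by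
  classical
  have hiso : g ∈ Cfsg.isometryGroup F ⇑Q := Orth.omegaGL_le_isometry hg
  set G : (ι → F) →ₗ[F] (ι → F) := Matrix.toLin' (g : Matrix ι ι F) with hG
  have hGap : ∀ v, G v = (g : Matrix ι ι F) *ᵥ v := fun v => Matrix.toLin'_apply _ _
  have hGiso : ∀ x y, polarBilin Q (G x) (G y) = polarBilin Q x y := fun x y => by
    rw [hGap, hGap, Orth.iso_polar hiso]
  have hGinj : Function.Injective G := fun x y h => by
    rw [hGap, hGap] at h
    have := congrArg (((g⁻¹ : GL ι F) : Matrix ι ι F) *ᵥ ·) h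
    simpa [Matrix.mulVec_mulVec, -Matrix.coe_units_inv] using this
  let A : U →ₗ[F] U := ((G ∘ₗ G).comp U.subtype).codRestrict U fun u => by
    show G (G u) ∈ U
    rw [hGap, hGap]; exact h2 _ (h1 _ u.2)
  let β : LinearMap.BilinForm F U := (polarBilin Q).compl₁₂ U.subtype (G ∘ₗ U.subtype)
  have hβ : ∀ x y : U, β x y = polarBilin Q (x : ι → F) (G y) := fun x y => rfl
  have hflip : ∀ x y : U, β y x = β (A x) y := fun x y => by
    show polarBilin Q (y : ι → F) (G x) = polarBilin Q (G (G x)) (G y)
    rw [hGiso, Geometry.quad_polar_comm Q (y : ι → F)]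
  have hss : ∀ x ∈ U, ∀ y ∈ U, polarBilin Q x y = 0 := Geometry.polar_eq_zero_of_singular Q hU
  have hmap : ∀ W : Submodule F (ι → F), finrank F (W.map G) = finrank F W := fun W =>
    (Submodule.equivMapOfInjective G hGinj W).finrank_eq.symm
  have hU2le : U2 ≤ U.map G := by
    have hle : U.map G ≤ U2 := by
      rintro _ ⟨u, hu, rfl⟩
      rw [hGap]; exact h1 u hu
    have hle' : U2.map G ≤ U := by
      rintro _ ⟨u, hu, rfl⟩
      rw [hGap]; exact h2 u hu
    have a := Submodule.finrank_mono hle'
    rw [hmap] at a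
    exact (Submodule.eq_of_le_of_finrank_le hle (by rw [hmap]; exact a)).ge
  have hnd : ∀ x : U, (∀ y, β x y = 0) → x = 0 := fun x hx => Subtype.ext (hN.1 _ fun v => by
    obtain ⟨a, ha, b, hb, rfl⟩ := Submodule.mem_sup.1 (hc.sup_eq_top.ge (Submodule.mem_top : v ∈ ⊤))
    obtain ⟨c, hcU, rfl⟩ := hU2le hb
    rw [map_add, hss _ x.2 _ ha, zero_add]
    exact hx ⟨c, hcU⟩)
  let b := Module.finBasis F U
  have hκ : finrank F (ι → F) = finrank F U + finrank F U := by
    have e := Submodule.finrank_sup_add_finrank_inf_eq U U2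
    rw [hc.sup_eq_top, hc.inf_eq_bot, finrank_top, finrank_bot, add_zero] at e
    have a := Submodule.finrank_mono hU2le
    rw [hmap] at a
    have a' : finrank F U ≤ finrank F U2 := by
      rw [← hmap U]
      exact Submodule.finrank_mono (by rintro _ ⟨u, hu, rfl⟩; rw [hGap]; exact h1 u hu)
    omega
  by_cases h20 : (2 : F) = 0
  · haveI : CharP F 2 := CharTwo.of_one_ne_zero_of_two_eq_zero one_ne_zero h20
    haveI : Fintype F := Fintype.ofFinite F
    obtain ⟨t, ht, rfl⟩ := hg
    have heven := (FusionControl.OmegaRank.mem_Omega_iff_rank Q hN hn t).1 ht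
    let γ : LinearMap.BilinForm F U := β - β.flip
    have hγ : γ.IsAlt := fun x => by simp [γ]
    have hker : LinearMap.ker γ = LinearMap.ker (A - 1) := by
      ext x
      simp only [LinearMap.mem_ker]
      constructor
      · intro h
        refine hnd _ fun y => ?_
        have := LinearMap.congr_fun h y
        have this : β x y - β y x = 0 := this
        rw [hflip x y] at this
        rw [LinearMap.sub_apply, Module.End.one_apply, map_sub, LinearMap.sub_apply]
        linear_combination -this
      · intro h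
        rw [LinearMap.sub_apply, Module.End.one_apply, sub_eq_zero] at h
        refine LinearMap.ext fun y => ?_
        show β x y - β y x = 0
        rw [hflip x y, h, sub_self]
    have hk := Geometry.even_finrank_sub_ker γ hγ
    rw [hker] at hk
    let L : LinearMap.ker (A - 1) →ₗ[F] (ι → F) :=
      (U.subtype + G ∘ₗ U.subtype) ∘ₗ (LinearMap.ker (A - 1)).subtype
    have hLi : Function.Injective L := by
      refine (injective_iff_map_eq_zero _).2 fun x hx => ?_
      have h0 : ((x : U) : ι → F) + G (x : U) = 0 := hx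
      have : ((x : U) : ι → F) ∈ U2 := by
        rw [eq_neg_of_add_eq_zero_left h0]
        exact neg_mem (by rw [hGap]; exact h1 _ (x : U).2)
      have h0' := hc.inf_eq_bot.le (Submodule.mem_inf.2 ⟨(x : U).2, this⟩)
      rw [Submodule.mem_bot] at h0'
      exact Subtype.ext (Subtype.ext h0')
    have hLr : LinearMap.range L = LinearMap.ker (G - 1) := by
      ext v
      constructor
      · rintro ⟨x, rfl⟩
        have hx := LinearMap.mem_ker.1 x.2
        rw [LinearMap.sub_apply, Module.End.one_apply, sub_eq_zero] at hx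
        have hx' : G (G (x : U)) = ((x : U) : ι → F) := congrArg Subtype.val hx
        rw [LinearMap.mem_ker, LinearMap.sub_apply, Module.End.one_apply, sub_eq_zero]
        show G (((x : U) : ι → F) + G (x : U)) = ((x : U) : ι → F) + G (x : U)
        rw [map_add, hx', add_comm]
      · intro hv
        rw [LinearMap.mem_ker, LinearMap.sub_apply, Module.End.one_apply, sub_eq_zero] at hv
        obtain ⟨a, ha, c, hc', rfl⟩ := Submodule.mem_sup.1 (hc.sup_eq_top.ge (Submodule.mem_top : v ∈ ⊤))
        rw [map_add] at hv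
        have e : G c - a = c - G a := by linear_combination (norm := module) hv
        have hz : G c - a ∈ U ⊓ U2 := ⟨sub_mem (by rw [hGap]; exact h2 c hc') ha,
          by rw [e]; exact sub_mem hc' (by rw [hGap]; exact h1 a ha)⟩
        rw [hc.inf_eq_bot, Submodule.mem_bot] at hz
        have hca : c = G a := sub_eq_zero.1 (e ▸ hz)
        refine ⟨⟨⟨a, ha⟩, ?_⟩, ?_⟩
        · rw [LinearMap.mem_ker, LinearMap.sub_apply, Module.End.one_apply, sub_eq_zero]
          refine Subtype.ext ?_
          show G (G a) = a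
          rw [← hca]; exact sub_eq_zero.1 hz
        · show a + G a = a + c
          rw [hca]
    have hrk := LinearMap.finrank_range_add_finrank_ker (G - 1)
    rw [← hLr, LinearMap.finrank_range_of_inj hLi] at hrk
    have hr : ((((t : GL ι F)) : Matrix ι ι F) - 1).rank = finrank F (LinearMap.range (G - 1)) := by
      rw [Matrix.rank]
      suffices h : ((((t : GL ι F)) : Matrix ι ι F) - 1).mulVecLin = G - 1 by rw [h]
      refine LinearMap.ext fun v => ?_
      rw [Matrix.mulVecLin_apply, Matrix.sub_mulVec, Matrix.one_mulVec, LinearMap.sub_apply, Module.End.one_apply, hGap]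
      rfl
    rw [hr] at heven
    rw [Nat.odd_iff] at hodd
    rw [Nat.even_iff] at heven hk
    omega
  · -- the determinant is `-1`
    let Ψ : (U × U) →ₗ[F] (ι → F) := U.subtype.coprod (G ∘ₗ U.subtype)
    have hΨ : Function.Surjective Ψ := fun v => by
      obtain ⟨a, ha, c, hc', rfl⟩ := Submodule.mem_sup.1 (hc.sup_eq_top.ge (Submodule.mem_top : v ∈ ⊤))
      obtain ⟨d, hd, rfl⟩ := hU2le hc'
      exact ⟨(⟨a, ha⟩, ⟨d, hd⟩), rfl⟩
    have hΨi : Function.Injective Ψ :=
      (LinearMap.injective_iff_surjective_of_finrank_eq_finrank (by rw [Module.finrank_prod, hκ])).2 hΨ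
    let e := LinearEquiv.ofBijective Ψ ⟨hΨi, hΨ⟩
    let T : (U × U) →ₗ[F] (U × U) := (A ∘ₗ LinearMap.snd F U U).prod (LinearMap.fst F U U)
    have hT : G = e.toLinearMap ∘ₗ T ∘ₗ e.symm.toLinearMap := by
      refine LinearMap.ext fun v => ?_
      obtain ⟨p, rfl⟩ := e.surjective v
      simp only [LinearMap.comp_apply, LinearEquiv.coe_coe, LinearEquiv.symm_apply_apply]
      show G ((p.1 : ι → F) + G p.2) = G (G p.2) + G p.1
      rw [map_add, add_comm]
    have hdG : LinearMap.det G = 1 := by
      rw [hG, LinearMap.det_toLin', ← Matrix.GeneralLinearGroup.val_det_apply, det_omegaGL hg]; rfl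
    rw [hT, LinearMap.det_conj, ← LinearMap.det_toMatrix (b.prod b)] at hdG
    have hTm : LinearMap.toMatrix (b.prod b) (b.prod b) T =
        Matrix.fromBlocks 0 (LinearMap.toMatrix b b A) 1 0 := by
      ext (i | i) (j | j) <;>
        simp [LinearMap.toMatrix_apply, T, Matrix.one_apply, Finsupp.single_apply, eq_comm]
    rw [hTm, det_swapBlocks, Fintype.card_fin] at hdG
    have hM : ((LinearMap.BilinForm.toMatrix b) β).det ≠ 0 :=
      (LinearMap.BilinForm.nondegenerate_iff_det_ne_zero b).1 ⟨hnd, fun y hy => Subtype.ext (hGinj (hGinj (by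
        have := congrArg (fun u : U => (u : ι → F)) (hnd (A y) fun x => by rw [← hflip]; exact hy x)
        rw [show G (G (y : ι → F)) = ((A y : U) : ι → F) from rfl, this, ZeroMemClass.coe_zero, map_zero, map_zero])))⟩
    have hA1 : (LinearMap.toMatrix b b A).det = 1 := by
      have h : ((LinearMap.BilinForm.toMatrix b) β)ᵀ =
          (LinearMap.toMatrix b b A)ᵀ * (LinearMap.BilinForm.toMatrix b) β := by
        rw [← LinearMap.BilinForm.toMatrix_compLeft]
        ext i j
        rw [Matrix.transpose_apply, LinearMap.BilinForm.toMatrix_apply, LinearMap.BilinForm.toMatrix_apply]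
        exact hflip _ _
      have h' := congrArg Matrix.det h
      rw [Matrix.det_transpose, Matrix.det_mul, Matrix.det_transpose] at h'
      exact (mul_eq_right₀ hM).1 h'.symm
    rw [hA1, mul_one, hodd.neg_one_pow] at hdG
    exact h20 (by linear_combination -hdG)

end Cfsg.Agent.Lib.OrthAny
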