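import Cfsg.Agent.Lib.OrthAny.Reducible
import Cfsg.Agent.Lib.OrthAny.Orbit
import Cfsg.Agent.Lib.MaxSub.OrthOddSub
import Cfsg.Agent.Lib.MaxSub.OrthNdAny
import Cfsg.Agent.Lib.MaxSub.OrthFamily

/-!
The reducible maximal subgroups of `Ω₁₂⁺(q)`: a totally singular 5-space gives way to one of the 6-spaces over it,
a non-degenerate 6-space to the decomposition into two isometric halves.
-/

set_option autoImplicit false
set_option linter.unusedSectionVars false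

namespace Cfsg.Agent.Lib.OrthAny.PlusTwelve

open Matrix Module
open Cfsg.Agent.Lib.MaxSub
open Cfsg.Agent.Lib.MaxSub.QuadType (Nd TS Plus perp Carries)
open Cfsg.Agent.Lib.Geometry (quad_add quad_smul quad_polar_self quad_polar_comm)
open QuadraticMap (polarBilin)
open scoped MatrixGroups Matrix

attribute [-simp] QuadraticMap.polarBilin_apply_apply

variable {F : Type*} [Field F] [Fintype F] {Q : QuadraticForm F (Fin 12 → F)}

/-- A totally singular 5-space lies in a totally singular 6-space. -/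
theorem exists_six (hN : (polarBilin Q).Nondegenerate) (hplus : Cfsg.Geo.IsPlusTypeOn ⇑Q ⊤)
    {T : Submodule F (Fin 12 → F)} (hT : ∀ v ∈ T, Q v = 0) (hTd : finrank F T = 5) :
    ∃ U, T ≤ U ∧ (∀ v ∈ U, Q v = 0) ∧ finrank F U = 6 := by
  obtain ⟨U₀, -, hU₀, hd⟩ := hplus
  rw [finrank_top, finrank_fin_fun] at hd
  set K := perp Q T ⊓ U₀ with hK
  have hTS : ∀ v ∈ T ⊔ K, Q v = 0 := by
    intro v hv
    obtain ⟨t, ht, k, hk, rfl⟩ := Submodule.mem_sup.1 hv
    rw [quad_add, hT t ht, hU₀ k hk.2, hk.1 t ht, add_zero, add_zero]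
  have hPd : finrank F T + finrank F (perp Q T) = 12 := by
    have := QuadType.dim_inf_perp Q (QuadType.nd_top Q hN) (le_top : T ≤ ⊤)
    rwa [top_inf_eq, finrank_top, finrank_fin_fun] at this
  have hPd' : finrank F (T ⊓ U₀ : Submodule F (Fin 12 → F)) + finrank F (perp Q (T ⊓ U₀)) = 12 := by
    have := QuadType.dim_inf_perp Q (QuadType.nd_top Q hN) (le_top : T ⊓ U₀ ≤ ⊤)
    rwa [top_inf_eq, finrank_top, finrank_fin_fun] at this
  have hle : perp Q T ⊔ U₀ ≤ perp Q (T ⊓ U₀) :=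
    sup_le (QuadType.perp_anti Q inf_le_left) fun u hu w hw => QuadType.ts_polar Q hU₀ hw.2 hu
  have h1 := Submodule.finrank_mono hle
  have h2 := Submodule.finrank_sup_add_finrank_inf_eq (perp Q T) U₀
  have h3 := Submodule.finrank_sup_add_finrank_inf_eq T K
  have h4 : finrank F (T ⊓ K : Submodule F (Fin 12 → F)) ≤ finrank F (T ⊓ U₀ : Submodule F (Fin 12 → F)) :=
    Submodule.finrank_mono (le_inf inf_le_left (inf_le_right.trans inf_le_right))
  have h5 := Orth.finrank_sing_le hN hTS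
  rw [Fintype.card_fin] at h5
  rw [← hK] at h2
  exact ⟨T ⊔ K, le_sup_left, hTS, by omega⟩

/-- A maximal subgroup fixing a proper subspace. -/
theorem reducible (hN : (polarBilin Q).Nondegenerate) (hplus : Cfsg.Geo.IsPlusTypeOn ⇑Q ⊤)
    {H : Subgroup (GL (Fin 12) F)}
    (hH : Cfsg.Geo.IsMaximalIn (Cfsg.Geo.omegaGL ⇑Q) H) {W : Submodule F (Fin 12 → F)} (h0 : W ≠ ⊥) (h1 : W ≠ ⊤)
    (hW : ∀ g ∈ H, ∀ w ∈ W, (g : Matrix (Fin 12) (Fin 12) F) *ᵥ w ∈ W) :
    (∃ W : Submodule F (Fin 12 → F), W ≠ ⊥ ∧ Cfsg.Geo.IsTotallySingularQuad ⇑Q W ∧ Module.finrank F W ≠ 5 ∧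
      H = Cfsg.Geo.subspaceStabilizer W ⊓ Cfsg.Geo.omegaGL ⇑Q) ∨
    (Odd (Fintype.card F) ∧ ∃ W : Submodule F (Fin 12 → F), W ≠ ⊥ ∧ W ≠ ⊤ ∧ Odd (Module.finrank F W) ∧
      2 * Module.finrank F W ≠ 12 ∧ Cfsg.Geo.IsNondegenerateOn (QuadraticMap.polar ⇑Q) W ∧
      H = Cfsg.Geo.subspaceStabilizer W ⊓ Cfsg.Geo.omegaGL ⇑Q) ∨
    (∃ W : Submodule F (Fin 12 → F), Module.finrank F W = 2 ∧ Cfsg.Geo.IsNondegenerateOn (QuadraticMap.polar ⇑Q) W ∧
      ¬ Cfsg.Geo.IsPlusTypeOn ⇑Q W ∧ H = Cfsg.Geo.subspaceStabilizer W ⊓ Cfsg.Geo.omegaGL ⇑Q) ∨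
    (4 ≤ Fintype.card F ∧ ∃ W : Submodule F (Fin 12 → F), Module.finrank F W = 2 ∧
      Cfsg.Geo.IsNondegenerateOn (QuadraticMap.polar ⇑Q) W ∧ Cfsg.Geo.IsPlusTypeOn ⇑Q W ∧
      H = Cfsg.Geo.subspaceStabilizer W ⊓ Cfsg.Geo.omegaGL ⇑Q) ∨
    (∃ W : Submodule F (Fin 12 → F), Module.finrank F W = 4 ∧ Cfsg.Geo.IsNondegenerateOn (QuadraticMap.polar ⇑Q) W ∧
      H = Cfsg.Geo.subspaceStabilizer W ⊓ Cfsg.Geo.omegaGL ⇑Q) ∨
    (¬ Odd (Fintype.card F) ∧ ∃ v : Fin 12 → F, Q v ≠ 0 ∧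
      H = Cfsg.Geo.subspaceStabilizer (Submodule.span F {v}) ⊓ Cfsg.Geo.omegaGL ⇑Q) ∨
    (∃ D : Fin 2 → Submodule F (Fin 12 → F), Cfsg.Geo.IsOrthogonalMDecomposition ⇑Q 6 D ∧
      H = Cfsg.Geo.decompositionStabilizer D ⊓ Cfsg.Geo.omegaGL ⇑Q) := by
  have hn : 7 ≤ Fintype.card (Fin 12) := by simp
  rcases OrthAny.reducible_cases hN hn hH h0 h1 hW with
    ⟨T, hT0, hT, hTeq⟩ | ⟨hq, U, hU0, hUt, hodd, hUn, hnd, hUeq⟩ | ⟨U, hU0, hUt, hev, hUn, hnd, hexc, hUeq⟩ | hline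
  · by_cases hT5 : finrank F T = 5
    swap
    · exact Or.inl ⟨T, hT0, hT, hT5, hTeq⟩
    obtain ⟨U, hTU, hU, hUd⟩ := exists_six hN hplus hT hT5
    refine Or.inl ⟨U, fun e => by rw [e, finrank_bot] at hUd; omega, hU, by omega,
      PrimeDim.OrthProper.eq_inf_of_le hH (fun g hg => PrimeDim.OrthProper.mem_stabilizer_of_maps fun w hw => ?_)
        (not_le_subspaceStabilizer hN hn (fun e => by rw [e, finrank_bot] at hUd; omega)
          fun e => by rw [e, finrank_top, finrank_fin_fun] at hUd; omega)⟩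
    set U' := U.map (Matrix.toLin' (g : Matrix (Fin 12) (Fin 12) F)) with hU'
    have hev := OrthFamily.even_codim hN (m := 6) rfl hUd hU (hH.1.le hg)
    rw [← hU'] at hev
    have hTU' : T ≤ U ⊓ U' := fun t ht => by
      refine ⟨hTU ht, ⟨((g⁻¹ : GL (Fin 12) F) : Matrix (Fin 12) (Fin 12) F) *ᵥ t,
        hTU (PrimeDim.OrthProper.maps_of_mem_stabilizer
          (hTeq ▸ H.inv_mem hg : g⁻¹ ∈ _ ⊓ Cfsg.Geo.omegaGL ⇑Q).1 ht), ?_⟩⟩
      rw [Matrix.toLin'_apply, Matrix.mulVec_mulVec, ← Units.val_mul, mul_inv_cancel, Units.val_one, Matrix.one_mulVec]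
    have h5 := Submodule.finrank_mono hTU'
    have h6 := Submodule.finrank_mono (inf_le_left : U ⊓ U' ≤ U)
    have hdim : finrank F (U ⊓ U' : Submodule F (Fin 12 → F)) = 6 := by
      obtain ⟨k, hk⟩ := hev
      omega
    have heq : U ⊓ U' = U := Submodule.eq_of_le_of_finrank_eq inf_le_left (by rw [hdim, hUd])
    have heq' : U ⊓ U' = U' := Submodule.eq_of_le_of_finrank_eq inf_le_right
      (by rw [hdim, hU', OrthFamily.finrank_map, hUd])
    have hmem : (g : Matrix (Fin 12) (Fin 12) F) *ᵥ w ∈ U' := ⟨w, hw, Matrix.toLin'_apply _ _⟩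
    rw [← heq', heq] at hmem
    exact hmem
  · rw [Fintype.card_fin] at hUn
    refine Or.inr (Or.inl ⟨hq, U, hU0, hUt, hodd, ?_, hnd, hUeq⟩)
    obtain ⟨k, hk⟩ := hodd
    omega
  · rw [Fintype.card_fin] at hUn
    have h246 : finrank F U = 2 ∨ finrank F U = 4 ∨ finrank F U = 6 := by
      obtain ⟨k, hk⟩ := hev
      have : 1 ≤ finrank F U := Submodule.one_le_finrank_iff.mpr hU0
      omega
    rcases h246 with h2d | h4d | h6d
    · by_cases hp : Cfsg.Geo.IsPlusTypeOn (⇑Q) U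
      · exact Or.inr (Or.inr (Or.inr (Or.inl ⟨hexc h2d hp, U, h2d, hnd, hp, hUeq⟩)))
      · exact Or.inr (Or.inr (Or.inl ⟨U, h2d, hnd, hp, hUeq⟩))
    · exact Or.inr (Or.inr (Or.inr (Or.inr (Or.inl ⟨U, h4d, hnd, hUeq⟩))))
    refine Or.inr (Or.inr (Or.inr (Or.inr (Or.inr (Or.inr ?_)))))
    have hU : Nd Q U := (OrthOddSub.nd_iff Q).1 hnd
    obtain ⟨hsup, hP, hdim, -⟩ := QuadType.compl_perp Q hN hU
    rw [finrank_fin_fun] at hdim
    have hP6 : finrank F (perp Q U) = 6 := by omega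
    set D : Fin 2 → Submodule F (Fin 12 → F) := ![U, perp Q U] with hD
    have hdis : Disjoint U (perp Q U) := by
      rw [disjoint_iff, eq_bot_iff]
      rintro v ⟨hv, hv'⟩
      by_contra hv0
      obtain ⟨x, hx, hvx⟩ := hU v hv (by simpa using hv0)
      exact hvx (QuadType.mem_perp' Q hv' hx)
    have hnd' : Cfsg.Geo.IsNondegenerateMDecomposition (QuadraticMap.polar ⇑Q) 6 D := by
      refine ⟨⟨le_rfl, by norm_num, Fin.forall_fin_two.mpr ⟨h6d, hP6⟩, ?_, ?_⟩,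
        Fin.forall_fin_two.mpr ⟨hnd, (OrthOddSub.nd_iff Q).2 hP⟩, fun i j hij => ?_⟩
      · rw [iSupIndep_pair (i := 0) (j := 1) (by decide) (fun k => by fin_cases k <;> simp)]
        simpa [hD] using hdis
      · rw [eq_top_iff, ← hsup]
        exact sup_le (le_iSup D 0) (le_iSup D 1)
      · fin_cases i <;> fin_cases j
        · exact absurd rfl hij
        · intro u hu v hv
          rw [← QuadraticMap.polarBilin_apply_apply]
          exact hv u hu
        · intro u hu v hv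
          rw [← QuadraticMap.polarBilin_apply_apply]
          exact QuadType.mem_perp' Q hu hv
        · exact absurd rfl hij
    have hpl : Plus Q (U ⊔ perp Q U) := by rw [hsup]; exact hplus
    obtain ⟨φ, hφ⟩ := OrthNdAny.exists_carries Q hN 3 hU hP (by omega) (by omega)
      ((QuadAny.sup_iff Q hN hU hP le_rfl ⟨3, h6d⟩ ⟨3, hP6⟩).1 hpl)
    have hi := OrthOddSub.iso_of_carries Q hU hφ
    have hle : H ≤ Cfsg.Geo.decompositionStabilizer D := by
      intro g hg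
      have hgU : g ∈ _ ⊓ Cfsg.Geo.omegaGL ⇑Q := hUeq ▸ hg
      have hiso := Orth.omegaGL_le_isometry hgU.2
      have hmapU : U.map (Matrix.toLin' (g : Matrix (Fin 12) (Fin 12) F)) = U :=
        Submodule.eq_of_le_of_finrank_le
          (by rintro _ ⟨w, hw, rfl⟩
              simpa using PrimeDim.OrthProper.maps_of_mem_stabilizer hgU.1 hw)
          (OrthFamily.finrank_map g U).ge
      have hmapP : (perp Q U).map (Matrix.toLin' (g : Matrix (Fin 12) (Fin 12) F)) = perp Q U := by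
        refine Submodule.eq_of_le_of_finrank_le ?_ (OrthFamily.finrank_map g _).ge
        rintro _ ⟨z, hz, rfl⟩ w hw
        obtain ⟨y, hy, rfl⟩ := hmapU.symm ▸ hw
        rw [Matrix.toLin'_apply, Matrix.toLin'_apply, Orth.iso_polar hiso]
        exact hz y hy
      exact ⟨1, fun i => by fin_cases i <;> simpa [hD]⟩
    refine ⟨D, ⟨hnd', fun i j => ?_⟩, PrimeDim.OrthProper.eq_inf_of_le hH hle
      (OrthAny.not_le_decompositionStabilizer hN (by simp) hnd'.decomp)⟩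
    fin_cases i <;> fin_cases j <;>
      first
        | exact ⟨LinearEquiv.refl F _, fun _ => rfl⟩
        | exact hi
        | exact OrthOddSub.iso_symm Q hi
  · exact Or.inr (Or.inr (Or.inr (Or.inr (Or.inr (Or.inl hline)))))

end Cfsg.Agent.Lib.OrthAny.PlusTwelve
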